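import Mathlib.CategoryTheory.Adjunction.Basic

/-! Compatibility of base change maps of adjoint squares with units and counits. -/

set_option autoImplicit false

universe v₁ v₂ v₃ v₄ u₁ u₂ u₃ u₄

open CategoryTheory

namespace Groth.Agent.An92.Mates

variable {C : Type u₁} [Category.{v₁} C] {D : Type u₂} [Category.{v₂} D]
  {C' : Type u₃} [Category.{v₃} C'] {D' : Type u₄} [Category.{v₄} D']
  {F : C ⥤ D} {a : D ⥤ C} {F' : C' ⥤ D'} {a' : D' ⥤ C'} {G : D' ⥤ D} {G' : C' ⥤ C}
  {L : D ⥤ D'} {L' : C ⥤ C'}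

/-- The comparison `G' a' M ⟶ a G M`. -/
abbrev xi (adj : F ⊣ a) (adj' : F' ⊣ a') (e : G' ⋙ F ≅ F' ⋙ G) (M : D') :
    G'.obj (a'.obj M) ⟶ a.obj (G.obj M) :=
  (adj.homEquiv _ _) (e.hom.app (a'.obj M) ≫ G.map (adj'.counit.app M))

variable (adj : F ⊣ a) (adj' : F' ⊣ a') (e : G' ⋙ F ≅ F' ⋙ G) (adjg : L ⊣ G) (adjg' : L' ⊣ G')

/-- The transpose of the base change map. -/
theorem homEquiv_bc (K : D) [IsIso (xi adj adj' e (L.obj K))] :
    (adjg'.homEquiv _ _) (L'.map (a.map (adjg.unit.app K)) ≫ L'.map (inv (xi adj adj' e (L.obj K))) ≫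
      adjg'.counit.app (a'.obj (L.obj K))) = a.map (adjg.unit.app K) ≫ inv (xi adj adj' e (L.obj K)) := by
  refine (congrArg _ ?_).trans ((adjg'.homEquiv _ _).apply_symm_apply _)
  exact ((Category.assoc _ _ _).symm.trans (congrArg (· ≫ adjg'.counit.app (a'.obj (L.obj K))) (L'.map_comp _ _).symm)).trans
    (adjg'.homEquiv_counit _ _ _).symm

/-- The trace is compatible with base change. -/
theorem trace_compat (K : D) [IsIso (xi adj adj' e (L.obj K))] :
    (adjg.homEquiv _ _).symm (F.map (adjg'.unit.app (a.obj K)) ≫ e.hom.app (L'.obj (a.obj K))) ≫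
      F'.map (L'.map (a.map (adjg.unit.app K)) ≫ L'.map (inv (xi adj adj' e (L.obj K))) ≫
        adjg'.counit.app (a'.obj (L.obj K))) ≫ adj'.counit.app (L.obj K) = L.map (adj.counit.app K) := by
  set α := L'.map (a.map (adjg.unit.app K)) ≫ L'.map (inv (xi adj adj' e (L.obj K))) ≫
    adjg'.counit.app (a'.obj (L.obj K)) with hα
  apply (adjg.homEquiv _ _).injective
  rw [Adjunction.homEquiv_naturality_right, Equiv.apply_symm_apply, G.map_comp, Category.assoc]
  have h1 : e.hom.app (L'.obj (a.obj K)) ≫ G.map (F'.map α) = F.map (G'.map α) ≫ e.hom.app (a'.obj (L.obj K)) :=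
    (e.hom.naturality α).symm
  rw [reassoc_of% h1, ← Category.assoc, ← F.map_comp,
    show adjg'.unit.app (a.obj K) ≫ G'.map α = _ from (adjg'.homEquiv_unit _ _ _).symm.trans (homEquiv_bc adj adj' e adjg adjg' K),
    F.map_comp, Category.assoc]
  have h2 : e.hom.app (a'.obj (L.obj K)) ≫ G.map (adj'.counit.app (L.obj K)) =
      F.map (xi adj adj' e (L.obj K)) ≫ adj.counit.app (G.obj (L.obj K)) := by
    exact ((adj.homEquiv _ _).symm_apply_apply _).symm.trans (adj.homEquiv_counit _ _ _)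
  rw [h2, ← Category.assoc (F.map (inv _)), ← F.map_comp, IsIso.inv_hom_id, F.map_id, Category.id_comp]
  rw [Adjunction.homEquiv_unit]
  exact (adj.counit.naturality (adjg.unit.app K)).trans (adjg.unit.naturality (adj.counit.app K))

theorem xi_naturality {M N : D'} (f : M ⟶ N) :
    G'.map (a'.map f) ≫ xi adj adj' e N = xi adj adj' e M ≫ a.map (G.map f) := by
  show _ ≫ (adj.homEquiv _ _) _ = (adj.homEquiv _ _) _ ≫ _
  rw [← Adjunction.homEquiv_naturality_left, ← Adjunction.homEquiv_naturality_right, Category.assoc,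
    ← G.map_comp]
  have h : F.map (G'.map (a'.map f)) ≫ e.hom.app (a'.obj N) = e.hom.app (a'.obj M) ≫ G.map (F'.map (a'.map f)) :=
    e.hom.naturality (a'.map f)
  rw [reassoc_of% h]
  congr 2
  rw [← G.map_comp]
  exact congrArg G.map (adj'.counit.naturality f)

/-- The unit is compatible with base change. -/
theorem unit_compat (M : C) [∀ N, IsIso (xi adj adj' e N)] :
    adj'.unit.app (L'.obj M) = L'.map (adj.unit.app M) ≫
      (L'.map (a.map (adjg.unit.app (F.obj M))) ≫ L'.map (inv (xi adj adj' e (L.obj (F.obj M)))) ≫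
        adjg'.counit.app (a'.obj (L.obj (F.obj M)))) ≫
      a'.map ((adjg.homEquiv _ _).symm (F.map (adjg'.unit.app M) ≫ e.hom.app (L'.obj M))) := by
  set β := (adjg.homEquiv _ _).symm (F.map (adjg'.unit.app M) ≫ e.hom.app (L'.obj M)) with hβ
  apply (adjg'.homEquiv _ _).injective
  refine Eq.trans ?_ ((adjg'.homEquiv_naturality_left _ _).trans (congrArg (adj.unit.app M ≫ ·)
    ((adjg'.homEquiv_naturality_right _ _).trans
      (congrArg (· ≫ G'.map (a'.map β)) (homEquiv_bc adj adj' e adjg adjg' (F.obj M)))))).symm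
  rw [Adjunction.homEquiv_unit]
  have h1 : inv (xi adj adj' e (L.obj (F.obj M))) ≫ G'.map (a'.map β) =
      a.map (G.map β) ≫ inv (xi adj adj' e (F'.obj (L'.obj M))) := by
    rw [IsIso.eq_comp_inv, Category.assoc, IsIso.inv_comp_eq, xi_naturality]
  have h3 : adjg.unit.app (F.obj M) ≫ G.map β = F.map (adjg'.unit.app M) ≫ e.hom.app (L'.obj M) := by
    exact (adjg.homEquiv_unit _ _ β).symm.trans (Equiv.apply_symm_apply _ _)
  have h4 : G'.map (adj'.unit.app (L'.obj M)) ≫ xi adj adj' e (F'.obj (L'.obj M)) =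
      (adj.homEquiv _ _) (e.hom.app (L'.obj M)) := by
    show _ ≫ (adj.homEquiv _ _) _ = _
    rw [← Adjunction.homEquiv_naturality_left]
    have h5 : F.map (G'.map (adj'.unit.app (L'.obj M))) ≫ e.hom.app (a'.obj (F'.obj (L'.obj M))) =
        e.hom.app (L'.obj M) ≫ G.map (F'.map (adj'.unit.app (L'.obj M))) := e.hom.naturality _
    rw [reassoc_of% h5, ← G.map_comp, adj'.left_triangle_components, G.map_id]
    simp
  simp only [Category.assoc]
  rw [h1, ← a.map_comp_assoc, h3, a.map_comp, Category.assoc]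
  have h6 : adj.unit.app M ≫ a.map (F.map (adjg'.unit.app M)) = adjg'.unit.app M ≫ adj.unit.app (G'.obj (L'.obj M)) :=
    (adj.unit.naturality (adjg'.unit.app M)).symm
  rw [reassoc_of% h6]
  rw [Adjunction.homEquiv_unit] at h4
  congr 1
  exact (IsIso.eq_comp_inv _).2 (h4.trans rfl) |>.trans (Category.assoc _ _ _)

end Groth.Agent.An92.Mates
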